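import Mathlib

set_option autoImplicit false

/-!
The number of conjugacy classes of `GL_n(q)`: the parameter sets and the counting functions.
-/

namespace Cfsg.Agent.Lib.Helper5.GLClass

open Polynomial

/-- the number of monic polynomials of degree `j` with nonzero constant term over a field with `q`
elements -/
def cN (q j : ℕ) : ℕ := if j = 0 then 1 else q ^ j - q ^ (j - 1)

/-- the number of sequences `(f_1, …, f_m)` of monic polynomials with nonzero constant terms and
`Σ i deg f_i = n` -/
def TN (q : ℕ) : ℕ → ℕ → ℕ
  | 0, n => if n = 0 then 1 else 0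
  | m + 1, n => ∑ d ∈ Finset.range (n / (m + 1) + 1), cN q d * TN q m (n - (m + 1) * d)

/-- the monic polynomials of degree `d` with nonzero constant term -/
def PolyD (F : Type*) [Field F] (d : ℕ) : Set F[X] :=
  {f | f.Monic ∧ f.natDegree = d ∧ f.coeff 0 ≠ 0}

/-- the parameter set: sequences `(f_1, …, f_m)` of monic polynomials with nonzero constant terms and
`Σ i deg f_i = n` -/
def Par (F : Type*) [Field F] (m n : ℕ) : Set (Fin m → F[X]) :=
  {f | (∀ j, (f j).Monic ∧ (f j).coeff 0 ≠ 0) ∧ ∑ j : Fin m, (j.val + 1) * (f j).natDegree = n}

/-- realises the unfolding lemmas of the definitions above in this file, so that every file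
downstream shares one copy of them -/
theorem defs_realize : True := by
  have := @cN.eq_1
  have := @cN.eq_def
  have := @TN.eq_1
  have := @TN.eq_2
  have := @TN.eq_def
  have := @PolyD.eq_1.{0}
  have := @PolyD.eq_def.{0}
  have := @Par.eq_1.{0}
  have := @Par.eq_def.{0}
  trivial

end Cfsg.Agent.Lib.Helper5.GLClass
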