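import Mathlib
import Cfsg.Agent.Lib.Helper5.GLClass.Defs
import Cfsg.Agent.Lib.Helper5.SemisimpleConj

set_option autoImplicit false

/-!
The injection of the conjugacy classes of `GL_n(F)` into the parameter set `Par F n n`.
-/

namespace Cfsg.Agent.Lib.Helper5.GLClass

open Polynomial Module Cfsg.Agent.Lib.Helper5

universe u v w

section pairs
variable {F : Type u} [Field F]

open scoped Classical in
/-- the multiset of pairs (normalised prime, exponent) of a decomposition datum -/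
noncomputable def pairs {ι : Type u} [Fintype ι] (p : ι → F[X]) (e : ι → ℕ) :
    Multiset (F[X] × ℕ) :=
  (Finset.univ : Finset {i // e i ≠ 0}).val.map (fun i => (nz (p i.1), e i.1))

theorem mem_pairs {ι : Type u} [Fintype ι] (p : ι → F[X]) (e : ι → ℕ) (x : F[X] × ℕ) :
    x ∈ pairs p e ↔ ∃ i, e i ≠ 0 ∧ x = (nz (p i), e i) := by
  unfold pairs
  rw [Multiset.mem_map]
  constructor
  · rintro ⟨i, _, rfl⟩
    exact ⟨i.1, i.2, rfl⟩
  · rintro ⟨i, hi, rfl⟩
    exact ⟨⟨i, hi⟩, Finset.mem_univ _, rfl⟩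

end pairs

section conj
variable {F : Type u} [Field F] {V : Type v} [AddCommGroup V] [Module F V]
  {W : Type w} [AddCommGroup W] [Module F W]

/-- two endomorphisms with the same multiset of pairs are conjugate -/
theorem conj_of_pairs_eq (φ : V →ₗ[F] V) (ψ : W →ₗ[F] W)
    {ι κ : Type u} [Fintype ι] [Fintype κ] (p : ι → F[X]) (hp : ∀ i, Irreducible (p i))
    (e : ι → ℕ) (Ψ : V ≃ₗ[F] (∀ i, F[X] ⧸ F[X] ∙ p i ^ e i))
    (hΨ : ∀ (q : F[X]) (u : V) (i : ι),
      Ψ (aeval φ q u) i = Ideal.Quotient.mk (F[X] ∙ p i ^ e i) q * Ψ u i)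
    (r : κ → F[X]) (hr : ∀ j, Irreducible (r j))
    (f : κ → ℕ) (Ω : W ≃ₗ[F] (∀ j, F[X] ⧸ F[X] ∙ r j ^ f j))
    (hΩ : ∀ (q : F[X]) (u : W) (j : κ),
      Ω (aeval ψ q u) j = Ideal.Quotient.mk (F[X] ∙ r j ^ f j) q * Ω u j)
    (h : pairs p e = pairs r f) : ∃ E : V ≃ₗ[F] W, ∀ v, E (φ v) = ψ (E v) := by
  classical
  unfold pairs at h
  obtain ⟨σ, hσ⟩ := exists_equiv_of_map_eq _ _ h
  have hI : ∀ i : {i // e i ≠ 0},
      (F[X] ∙ p i.1 ^ e i.1) = (F[X] ∙ r (σ i).1 ^ f (σ i).1) := by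
    intro i
    have h0 := hσ i
    have h1 : nz (r (σ i).1) = nz (p i.1) := congrArg Prod.fst h0
    have h2 : f (σ i).1 = e i.1 := congrArg Prod.snd h0
    rw [h2]
    have h3 : Associated (p i.1) (r (σ i).1) := by
      have h4 := nz_associated (hp i.1).ne_zero
      have h5 := nz_associated (hr (σ i).1).ne_zero
      rw [h1] at h5
      exact h4.symm.trans h5
    exact Ideal.span_singleton_eq_span_singleton.2 (h3.pow_pow)
  let Q₁ : ι → Type u := fun i => F[X] ⧸ F[X] ∙ p i ^ e i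
  let Q₂ : κ → Type u := fun j => F[X] ⧸ F[X] ∙ r j ^ f j
  have hsub : ∀ (g : F[X]) (k : ℕ), ¬ (k ≠ 0) → Subsingleton (F[X] ⧸ F[X] ∙ g ^ k) := by
    intro g k hk
    push Not at hk
    subst hk
    rw [pow_zero]
    apply Ideal.Quotient.subsingleton_iff.2
    exact Ideal.span_singleton_one
  let E₁ : (∀ i, Q₁ i) ≃ₗ[F[X]] (∀ i : {i // e i ≠ 0}, Q₁ i.1) :=
    piDrop Q₁ (fun i => e i ≠ 0) (fun i hi => hsub (p i) (e i) hi)
  let E₂ : (∀ i : {i // e i ≠ 0}, Q₁ i.1) ≃ₗ[F[X]] (∀ i : {i // e i ≠ 0}, Q₂ (σ i).1) :=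
    LinearEquiv.piCongrRight (fun i => Submodule.quotEquivOfEq _ _ (hI i))
  let E₃ : (∀ i : {i // e i ≠ 0}, Q₂ (σ i).1) ≃ₗ[F[X]] (∀ j : {j // f j ≠ 0}, Q₂ j.1) :=
    LinearEquiv.piCongrLeft F[X] (fun j : {j // f j ≠ 0} => Q₂ j.1) σ
  let E₄ : (∀ j, Q₂ j) ≃ₗ[F[X]] (∀ j : {j // f j ≠ 0}, Q₂ j.1) :=
    piDrop Q₂ (fun j => f j ≠ 0) (fun j hj => hsub (r j) (f j) hj)
  let E : (∀ i, Q₁ i) ≃ₗ[F[X]] (∀ j, Q₂ j) := E₁ ≪≫ₗ E₂ ≪≫ₗ E₃ ≪≫ₗ E₄.symm
  refine ⟨Ψ ≪≫ₗ E.restrictScalars F ≪≫ₗ Ω.symm, ?_⟩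
  intro v
  have h1 : Ψ (φ v) = (X : F[X]) • Ψ v := by
    funext i
    rw [primary_decomp_X φ Ψ hΨ]
    rfl
  have h2 : ∀ w, Ω (ψ w) = (X : F[X]) • Ω w := by
    intro w
    funext j
    rw [primary_decomp_X ψ Ω hΩ]
    rfl
  apply Ω.injective
  rw [h2]
  simp only [LinearEquiv.trans_apply, LinearEquiv.apply_symm_apply,
    LinearEquiv.restrictScalars_apply]
  rw [h1, map_smul]

end conj

section seq
variable {F : Type u} [Field F]

/-- the sequence of polynomials of a multiset of pairs -/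
noncomputable def seqOf (n : ℕ) (m : Multiset (F[X] × ℕ)) : Fin n → F[X] :=
  fun j => ((m.filter (fun x => x.2 = j.val + 1)).map Prod.fst).prod

/-- the multisets of pairs which occur -/
def Good (n : ℕ) (m : Multiset (F[X] × ℕ)) : Prop :=
  ∀ x ∈ m, Irreducible x.1 ∧ x.1.Monic ∧ 1 ≤ x.2 ∧ x.2 ≤ n

theorem filter_eq_map_fst (m : Multiset (F[X] × ℕ)) (k : ℕ) :
    m.filter (fun x => x.2 = k) =
      ((m.filter (fun x => x.2 = k)).map Prod.fst).map (fun P => (P, k)) := by
  rw [Multiset.map_map]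
  conv_lhs => rw [← Multiset.map_id (m.filter (fun x => x.2 = k))]
  apply Multiset.map_congr rfl
  intro x hx
  have h2 : x.2 = k := (Multiset.mem_filter.1 hx).2
  show x = (x.1, k)
  rw [← h2]

theorem seqOf_injective (n : ℕ) {m m' : Multiset (F[X] × ℕ)} (hm : Good n m) (hm' : Good n m')
    (h : seqOf n m = seqOf n m') : m = m' := by
  classical
  -- the levels agree
  have hlev : ∀ k : ℕ, m.filter (fun x => x.2 = k) = m'.filter (fun x => x.2 = k) := by
    intro k
    by_cases hk : 1 ≤ k ∧ k ≤ n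
    · obtain ⟨j, hj⟩ : ∃ j : Fin n, j.val + 1 = k := ⟨⟨k - 1, by omega⟩, by simp; omega⟩
      have hprod := congrFun h j
      unfold seqOf at hprod
      rw [hj] at hprod
      have hrel := UniqueFactorizationMonoid.factors_unique
        (f := (m.filter (fun x => x.2 = k)).map Prod.fst)
        (g := (m'.filter (fun x => x.2 = k)).map Prod.fst)
        (by
          intro P hP
          obtain ⟨x, hx, rfl⟩ := Multiset.mem_map.1 hP
          exact (hm x (Multiset.mem_filter.1 hx).1).1)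
        (by
          intro P hP
          obtain ⟨x, hx, rfl⟩ := Multiset.mem_map.1 hP
          exact (hm' x (Multiset.mem_filter.1 hx).1).1)
        (by rw [hprod]; exact Associated.refl _)
      have heq : (m.filter (fun x => x.2 = k)).map Prod.fst =
          (m'.filter (fun x => x.2 = k)).map Prod.fst := by
        rw [← Multiset.rel_eq]
        refine hrel.mono ?_
        intro a ha b hb hab
        obtain ⟨x, hx, rfl⟩ := Multiset.mem_map.1 ha
        obtain ⟨y, hy, rfl⟩ := Multiset.mem_map.1 hb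
        exact Polynomial.eq_of_monic_of_associated (hm x (Multiset.mem_filter.1 hx).1).2.1
          (hm' y (Multiset.mem_filter.1 hy).1).2.1 hab
      rw [filter_eq_map_fst m k, filter_eq_map_fst m' k, heq]
    · have h1 : m.filter (fun x => x.2 = k) = 0 := by
        rw [Multiset.filter_eq_nil]
        intro x hx hxk
        apply hk
        rw [← hxk]
        exact ⟨(hm x hx).2.2.1, (hm x hx).2.2.2⟩
      have h2 : m'.filter (fun x => x.2 = k) = 0 := by
        rw [Multiset.filter_eq_nil]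
        intro x hx hxk
        apply hk
        rw [← hxk]
        exact ⟨(hm' x hx).2.2.1, (hm' x hx).2.2.2⟩
      rw [h1, h2]
  ext x
  have e1 : Multiset.count x m = Multiset.count x (m.filter (fun y => y.2 = x.2)) :=
    (Multiset.count_filter_of_pos (p := fun y : F[X] × ℕ => y.2 = x.2) rfl).symm
  have e2 : Multiset.count x m' = Multiset.count x (m'.filter (fun y => y.2 = x.2)) :=
    (Multiset.count_filter_of_pos (p := fun y : F[X] × ℕ => y.2 = x.2) rfl).symm
  rw [e1, e2, hlev]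

end seq

section par
variable {F : Type u} [Field F]

theorem sum_levels (n : ℕ) (m : Multiset (F[X] × ℕ)) (hm : ∀ x ∈ m, 1 ≤ x.2 ∧ x.2 ≤ n) :
    ∑ j : Fin n, (j.val + 1) *
        ((m.filter (fun x => x.2 = j.val + 1)).map (fun x => x.1.natDegree)).sum =
      (m.map (fun x => x.2 * x.1.natDegree)).sum := by
  classical
  induction m using Multiset.induction_on with
  | empty => simp
  | cons a m ih =>
    have ih' := ih (fun x hx => hm x (Multiset.mem_cons_of_mem hx))
    have ha := hm a (Multiset.mem_cons_self a m)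
    rw [Multiset.map_cons, Multiset.sum_cons, ← ih']
    have e1 : ∀ j : Fin n, (j.val + 1) *
        (((a ::ₘ m).filter (fun x => x.2 = j.val + 1)).map (fun x => x.1.natDegree)).sum =
        (if a.2 = j.val + 1 then a.2 * a.1.natDegree else 0) + (j.val + 1) *
          ((m.filter (fun x => x.2 = j.val + 1)).map (fun x => x.1.natDegree)).sum := by
      intro j
      rw [Multiset.filter_cons]
      by_cases hj : a.2 = j.val + 1
      · rw [if_pos hj, if_pos hj, Multiset.map_add, Multiset.sum_add, Multiset.map_singleton,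
          Multiset.sum_singleton, mul_add, hj]
      · rw [if_neg hj, if_neg hj, zero_add, zero_add]
    rw [Finset.sum_congr rfl (fun j _ => e1 j), Finset.sum_add_distrib]
    congr 1
    rw [Finset.sum_eq_single (⟨a.2 - 1, by omega⟩ : Fin n)]
    · rw [if_pos]
      show a.2 = a.2 - 1 + 1
      omega
    · intro j _ hj
      rw [if_neg]
      intro e
      apply hj
      apply Fin.ext
      show j.val = a.2 - 1
      omega
    · intro h
      exact absurd (Finset.mem_univ _) h

theorem seqOf_mem_Par (n : ℕ) (m : Multiset (F[X] × ℕ)) (hm : Good n m)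
    (h0 : ∀ x ∈ m, x.1.coeff 0 ≠ 0)
    (hsum : (m.map (fun x => x.2 * x.1.natDegree)).sum = n) : seqOf n m ∈ Par F n n := by
  classical
  have hmonic : ∀ j : Fin n, ∀ P ∈ (m.filter (fun x => x.2 = j.val + 1)).map Prod.fst,
      P.Monic := by
    intro j P hP
    obtain ⟨x, hx, rfl⟩ := Multiset.mem_map.1 hP
    exact (hm x (Multiset.mem_filter.1 hx).1).2.1
  refine ⟨fun j => ⟨?_, ?_⟩, ?_⟩
  · exact Polynomial.monic_multiset_prod_of_monic _ _ (fun x hx =>
      (hm x (Multiset.mem_filter.1 hx).1).2.1)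
  · unfold seqOf
    rw [Polynomial.coeff_zero_multiset_prod]
    apply Multiset.prod_ne_zero
    intro hz
    obtain ⟨P, hP, hP0⟩ := Multiset.mem_map.1 hz
    obtain ⟨x, hx, rfl⟩ := Multiset.mem_map.1 hP
    exact h0 x (Multiset.mem_filter.1 hx).1 hP0
  · have e1 : ∀ j : Fin n, (seqOf n m j).natDegree =
        ((m.filter (fun x => x.2 = j.val + 1)).map (fun x => x.1.natDegree)).sum := by
      intro j
      unfold seqOf
      rw [Polynomial.natDegree_multiset_prod_of_monic _ (hmonic j), Multiset.map_map]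
      rfl
    rw [Finset.sum_congr rfl (fun j _ => by rw [e1 j]),
      sum_levels n m (fun x hx => (hm x hx).2.2), hsum]

end par

section facts
variable {F : Type u} [Field F] {V : Type v} [AddCommGroup V] [Module F V] [FiniteDimensional F V]

theorem natDegree_nz (g : F[X]) (hg : g ≠ 0) : (nz g).natDegree = g.natDegree := by
  unfold nz
  exact Polynomial.natDegree_mul_C (inv_ne_zero (leadingCoeff_ne_zero.2 hg))

theorem finrank_quot (g : F[X]) (hg : g ≠ 0) :
    Module.finrank F (F[X] ⧸ F[X] ∙ g) = g.natDegree := by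
  have h1 := (AdjoinRoot.powerBasis hg).finrank
  rw [AdjoinRoot.powerBasis_dim] at h1
  exact h1

/-- the dimension formula of a decomposition -/
theorem sum_decomp {ι : Type u} [Fintype ι] (p : ι → F[X])
    (hp : ∀ i, Irreducible (p i)) (e : ι → ℕ)
    (Ψ : V ≃ₗ[F] (∀ i, F[X] ⧸ F[X] ∙ p i ^ e i)) :
    ∑ i, e i * (p i).natDegree = Module.finrank F V := by
  classical
  have hne : ∀ i, p i ^ e i ≠ 0 := fun i => pow_ne_zero _ (hp i).ne_zero
  have fin : ∀ i, Module.Finite F (F[X] ⧸ F[X] ∙ p i ^ e i) := fun i =>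
    (AdjoinRoot.powerBasis (hne i)).finite
  rw [LinearEquiv.finrank_eq Ψ, Module.finrank_pi_fintype]
  apply Finset.sum_congr rfl
  intro i _
  rw [finrank_quot _ (hne i), natDegree_pow]

theorem pairs_facts (φ : V →ₗ[F] V) (hφ : Function.Injective φ) {ι : Type u} [Fintype ι]
    (p : ι → F[X]) (hp : ∀ i, Irreducible (p i)) (e : ι → ℕ)
    (Ψ : V ≃ₗ[F] (∀ i, F[X] ⧸ F[X] ∙ p i ^ e i))
    (hΨ : ∀ (q : F[X]) (u : V) (i : ι),
      Ψ (aeval φ q u) i = Ideal.Quotient.mk (F[X] ∙ p i ^ e i) q * Ψ u i) :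
    Good (Module.finrank F V) (pairs p e) ∧ (∀ x ∈ pairs p e, x.1.coeff 0 ≠ 0) ∧
      ((pairs p e).map (fun x => x.2 * x.1.natDegree)).sum = Module.finrank F V := by
  classical
  have hsum := sum_decomp p hp e Ψ
  have hdeg : ∀ i, 1 ≤ (p i).natDegree := fun i =>
    Polynomial.natDegree_pos_iff_degree_pos.2 (Polynomial.degree_pos_of_irreducible (hp i))
  refine ⟨?_, ?_, ?_⟩
  · intro x hx
    obtain ⟨i, hi, rfl⟩ := (mem_pairs p e x).1 hx
    refine ⟨(nz_associated (hp i).ne_zero).irreducible_iff.2 (hp i), nz_monic (hp i).ne_zero,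
      Nat.one_le_iff_ne_zero.2 hi, ?_⟩
    show e i ≤ _
    rw [← hsum]
    calc e i ≤ e i * (p i).natDegree := Nat.le_mul_of_pos_right _ (hdeg i)
      _ ≤ ∑ k, e k * (p k).natDegree :=
        Finset.single_le_sum (f := fun k => e k * (p k).natDegree) (fun k _ => Nat.zero_le _)
          (Finset.mem_univ i)
  · intro x hx
    obtain ⟨i, hi, rfl⟩ := (mem_pairs p e x).1 hx
    show (nz (p i)).coeff 0 ≠ 0
    intro h0
    have hX : (X : F[X]) ∣ p i :=
      ((nz_associated (hp i).ne_zero).dvd_iff_dvd_right).1 (X_dvd_iff.2 h0)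
    have hass : Associated (X : F[X]) (p i) :=
      Irreducible.associated_of_dvd prime_X.irreducible (hp i) hX
    have hpX : p i ∣ X := hass.symm.dvd
    obtain ⟨k, hk⟩ : ∃ k, e i = k + 1 := ⟨e i - 1, by omega⟩
    set y : F[X] ⧸ F[X] ∙ p i ^ e i := Ideal.Quotient.mk _ (p i ^ k) with hy
    set v : V := Ψ.symm (Pi.single i y) with hv
    have hΨv : Ψ v = Pi.single i y := by rw [hv, LinearEquiv.apply_symm_apply]
    have hzero : Ψ (φ v) = 0 := by
      funext j
      rw [primary_decomp_X φ Ψ hΨ, hΨv]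
      by_cases hj : j = i
      · subst hj
        rw [Pi.single_eq_same, hy, ← map_mul, Pi.zero_apply]
        apply Ideal.Quotient.eq_zero_iff_mem.2
        apply Ideal.mem_span_singleton.2
        rw [hk, pow_succ, mul_comm]
        exact mul_dvd_mul hpX dvd_rfl
      · rw [Pi.single_eq_of_ne hj, mul_zero, Pi.zero_apply]
    have hv0 : v = 0 := by
      have h1 : φ v = 0 := Ψ.injective (by rw [hzero, map_zero])
      exact hφ (by rw [h1, map_zero])
    have hy0 : y = 0 := by
      have h1 : Pi.single i y = (0 : ∀ i, F[X] ⧸ F[X] ∙ p i ^ e i) := by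
        rw [← hΨv, hv0, map_zero]
      have h2 := congrFun h1 i
      rwa [Pi.single_eq_same] at h2
    rw [hy] at hy0
    have h3 : p i ^ e i ∣ p i ^ k :=
      Ideal.mem_span_singleton.1 (Ideal.Quotient.eq_zero_iff_mem.1 hy0)
    have h4 := (pow_dvd_pow_iff (hp i).ne_zero (hp i).not_isUnit).1 h3
    omega
  · unfold pairs
    rw [Multiset.map_map]
    show ∑ i : {i // e i ≠ 0}, e i.1 * (nz (p i.1)).natDegree = _
    rw [← hsum]
    have e1 : ∀ i : {i // e i ≠ 0}, e i.1 * (nz (p i.1)).natDegree =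
        e i.1 * (p i.1).natDegree := fun i => by rw [natDegree_nz _ (hp i.1).ne_zero]
    rw [Finset.sum_congr rfl (fun i _ => e1 i)]
    rw [← Finset.sum_subtype (Finset.univ.filter (fun i => e i ≠ 0)) (by simp)
      (fun i => e i * (p i).natDegree)]
    rw [Finset.sum_filter]
    apply Finset.sum_congr rfl
    intro i _
    by_cases hi : e i = 0
    · simp [hi]
    · simp [hi]

end facts

section gl
variable {F : Type u} [Field F] {n : ℕ}

/-- `m` is the multiset of pairs of some primary decomposition of `g` -/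
def IsType (g : Matrix.GeneralLinearGroup (Fin n) F) (m : Multiset (F[X] × ℕ)) : Prop :=
  ∃ (ι : Type u) (_ : Fintype ι) (p : ι → F[X]) (_ : ∀ i, Irreducible (p i)) (e : ι → ℕ)
    (Ψ : (Fin n → F) ≃ₗ[F] (∀ i, F[X] ⧸ F[X] ∙ p i ^ e i)),
    (∀ (q : F[X]) (u : Fin n → F) (i : ι),
      Ψ (aeval (Matrix.toLin' g.val) q u) i = Ideal.Quotient.mk (F[X] ∙ p i ^ e i) q * Ψ u i) ∧
    m = pairs p e

theorem exists_isType (g : Matrix.GeneralLinearGroup (Fin n) F) : ∃ m, IsType g m := by
  obtain ⟨ι, hι, p, hp, e, Ψ, hΨ⟩ := exists_primary_decomp (Matrix.toLin' g.val)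
  exact ⟨_, ι, hι, p, hp, e, Ψ, hΨ, rfl⟩

theorem toLin'_injective (g : Matrix.GeneralLinearGroup (Fin n) F) :
    Function.Injective (Matrix.toLin' g.val) := by
  have h : ∀ v, Matrix.toLin' (g⁻¹).val (Matrix.toLin' g.val v) = v := by
    intro v
    rw [← LinearMap.comp_apply, ← Matrix.toLin'_mul, ← Units.val_mul, inv_mul_cancel,
      Units.val_one, Matrix.toLin'_one]
    rfl
  exact Function.LeftInverse.injective h

theorem IsType.facts {g : Matrix.GeneralLinearGroup (Fin n) F} {m : Multiset (F[X] × ℕ)}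
    (h : IsType g m) : Good n m ∧ (∀ x ∈ m, x.1.coeff 0 ≠ 0) ∧
      (m.map (fun x => x.2 * x.1.natDegree)).sum = n := by
  obtain ⟨ι, hι, p, hp, e, Ψ, hΨ, rfl⟩ := h
  have := pairs_facts (Matrix.toLin' g.val) (toLin'_injective g) p hp e Ψ hΨ
  rwa [Module.finrank_fin_fun] at this

theorem IsType.isConj {g h : Matrix.GeneralLinearGroup (Fin n) F} {m : Multiset (F[X] × ℕ)}
    (hg : IsType g m) (hh : IsType h m) : IsConj g h := by
  obtain ⟨ι, hι, p, hp, e, Ψ, hΨ, hm⟩ := hg
  obtain ⟨κ, hκ, r, hr, f, Ω, hΩ, hm'⟩ := hh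
  obtain ⟨E, hE⟩ := conj_of_pairs_eq (Matrix.toLin' g.val) (Matrix.toLin' h.val) p hp e Ψ hΨ
    r hr f Ω hΩ (by rw [← hm, ← hm'])
  have h1 : LinearMap.toMatrix' E.toLinearMap * LinearMap.toMatrix' E.symm.toLinearMap = 1 := by
    rw [← LinearMap.toMatrix'_comp]
    have : E.toLinearMap ∘ₗ E.symm.toLinearMap = LinearMap.id := by
      ext v; simp
    rw [this, LinearMap.toMatrix'_id]
  have hP : IsUnit (LinearMap.toMatrix' E.toLinearMap).det :=
    IsUnit.of_mul_eq_one _ (by rw [← Matrix.det_mul, h1, Matrix.det_one])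
  have hPM : LinearMap.toMatrix' E.toLinearMap * g.val = h.val * LinearMap.toMatrix' E.toLinearMap := by
    have h2 : E.toLinearMap ∘ₗ Matrix.toLin' g.val = Matrix.toLin' h.val ∘ₗ E.toLinearMap := by
      apply LinearMap.ext
      intro v
      exact hE v
    have h3 := congrArg LinearMap.toMatrix' h2
    rwa [LinearMap.toMatrix'_comp, LinearMap.toMatrix'_comp, LinearMap.toMatrix'_toLin',
      LinearMap.toMatrix'_toLin'] at h3
  have hPu : IsUnit (LinearMap.toMatrix' E.toLinearMap) :=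
    (Matrix.isUnit_iff_isUnit_det _).2 hP
  obtain ⟨c, hc⟩ := hPu
  rw [isConj_iff]
  refine ⟨c, ?_⟩
  have h4 : c * g = h * c := Units.ext (by rw [Units.val_mul, Units.val_mul, hc, hPM])
  rw [h4]
  group

/-- **the injection of the conjugacy classes into the parameter set** -/
theorem exists_type_map (n : ℕ) :
    ∃ Φ : Matrix.GeneralLinearGroup (Fin n) F → (Fin n → F[X]),
      (∀ g, Φ g ∈ Par F n n) ∧ ∀ g h, Φ g = Φ h → IsConj g h := by
  classical
  choose m hm using fun g : Matrix.GeneralLinearGroup (Fin n) F => exists_isType g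
  refine ⟨fun g => seqOf n (m g), ?_, ?_⟩
  · intro g
    obtain ⟨h1, h2, h3⟩ := (hm g).facts
    exact seqOf_mem_Par n (m g) h1 h2 h3
  · intro g h hgh
    have e : m g = m h := seqOf_injective n (hm g).facts.1 (hm h).facts.1 hgh
    have hh := hm h
    rw [← e] at hh
    exact (hm g).isConj hh

end gl

end Cfsg.Agent.Lib.Helper5.GLClass
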