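import Mathlib
import Cfsg.Agent.Lib.Helper5.GLClass.TypeMap
import Cfsg.Agent.Lib.Lead.GLClassLower
import Cfsg.Agent.Lib.Lead.GLClassNum

set_option autoImplicit false

/-!
The bounds `q^n - q^(n-1) ≤ k(GL_n(q)) ≤ q^n`, modulo the count of the parameter sets.
-/

namespace Cfsg.Agent.Lib.Helper5.GLClass

open Polynomial

theorem conjClasses_bounds {F : Type*} [Field F] [Fintype F] (n : ℕ) (hn : 1 ≤ n)
    (hcardD : Nat.card (PolyD F n) = cN (Fintype.card F) n)
    (hfinPar : (Par F n n).Finite)
    (hcardPar : Nat.card (Par F n n) = TN (Fintype.card F) n n) :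
    Fintype.card F ^ n - Fintype.card F ^ (n - 1) ≤
        Nat.card (ConjClasses (Matrix.GeneralLinearGroup (Fin n) F)) ∧
      Nat.card (ConjClasses (Matrix.GeneralLinearGroup (Fin n) F)) ≤ Fintype.card F ^ n := by
  classical
  constructor
  · have h := card_PolyD_le_conjClasses (F := F) n
    rw [hcardD] at h
    unfold cN at h
    rwa [if_neg (by omega)] at h
  · obtain ⟨Φ, hΦ, hinj⟩ := exists_type_map (F := F) n
    haveI : Finite (Par F n n) := hfinPar.to_subtype
    have h1 : Nat.card (ConjClasses (Matrix.GeneralLinearGroup (Fin n) F)) ≤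
        Nat.card (Par F n n) := by
      apply Nat.card_le_card_of_injective
        (fun c : ConjClasses (Matrix.GeneralLinearGroup (Fin n) F) =>
          (⟨Φ (Quotient.out c), hΦ _⟩ : Par F n n))
      intro c c' hcc
      have h2 : Φ (Quotient.out c) = Φ (Quotient.out c') := congrArg Subtype.val hcc
      have h3 := hinj _ _ h2
      have h4 : ConjClasses.mk (Quotient.out c) = ConjClasses.mk (Quotient.out c') :=
        ConjClasses.mk_eq_mk_iff_isConj.2 h3
      have e1 : ConjClasses.mk (Quotient.out c) = c := Quotient.out_eq c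
      have e2 : ConjClasses.mk (Quotient.out c') = c' := Quotient.out_eq c'
      rw [e1, e2] at h4
      exact h4
    have hq : 2 ≤ Fintype.card F := Fintype.one_lt_card
    have h5 := TN_le (Fintype.card F) hq n n hn hn
    rw [hcardPar] at h1
    omega

end Cfsg.Agent.Lib.Helper5.GLClass
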